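import Groth.Agent.Lib.LocCohZ.QCoh
import Groth.Agent.Lib.DBC9.Good
import Groth.Agent.Lib.RFPlus.Triangulated
import Groth.Prelude.Def_CxOX

/-! Derived sections with supports in a closed subset: triangle and universal property. -/

set_option autoImplicit false
set_option linter.unusedSectionVars false
set_option linter.style.haveILetI false
set_option backward.isDefEq.respectTransparency false
set_option backward.isDefEq.respectTransparency.types false
set_option maxHeartbeats 800000

universe u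

open CategoryTheory CategoryTheory.Limits AlgebraicGeometry Pretriangulated

attribute [local instance] HasDerivedCategory.standard

namespace Groth.Agent.DGam9

open DMon9

attribute [local instance] DBC9.hasRpush

local notation "Cx" => ComplexShape.up ℤ

variable {U X : Scheme.{u}} (j : U ⟶ X) [IsOpenImmersion j]

/-- The inclusion of sections with supports, on complexes. -/
noncomputable def ιI (I : CochainComplex X.Modules ℤ) : ((DCoh.gammaZ j).mapHomologicalComplex Cx).obj I ⟶ I where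
  f i := (LocCohZQ.gammaι j).app (I.X i)
  comm' i k _ := ((LocCohZQ.gammaι j).naturality (I.d i k)).symm

/-- The unit, on complexes. -/
noncomputable def ηI (I : CochainComplex X.Modules ℤ) :
    I ⟶ ((LocCohZQ.pp j).mapHomologicalComplex Cx).obj I where
  f i := (Scheme.Modules.restrictAdjunction j).unit.app (I.X i)
  comm' i k _ := ((Scheme.Modules.restrictAdjunction j).unit.naturality (I.d i k)).symm

theorem ιI_ηI (I : CochainComplex X.Modules ℤ) : ιI j I ≫ ηI j I = 0 :=
  HomologicalComplex.hom_ext _ _ fun i => LocCohZQ.seq_zero j (I.X i)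

theorem shortExact_seq (I : CochainComplex X.Modules ℤ) (hI : ∀ n, Injective (I.X n)) :
    (ShortComplex.mk _ _ (ιI_ηI j I)).ShortExact :=
  HomologicalComplex.shortExact_of_degreewise_shortExact _ fun i => by
    haveI := hI i
    exact LocCohZQ.seq_shortExact j (I.X i)

theorem isZero_restrict_gammaZ (M : X.Modules) :
    IsZero ((Scheme.Modules.restrictFunctor j).obj ((DCoh.gammaZ j).obj M)) := by
  let adj := Scheme.Modules.restrictAdjunction j
  let r := Scheme.Modules.restrictFunctor j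
  haveI : IsIso (r.map (adj.unit.app M)) := by
    haveI : IsIso (r.map (adj.unit.app M) ≫ adj.counit.app (r.obj M)) :=
      adj.left_triangle_components M ▸ inferInstanceAs (IsIso (𝟙 (r.obj M)))
    exact IsIso.of_isIso_comp_right _ (adj.counit.app (r.obj M))
  exact (isZero_kernel_of_mono (r.map (adj.unit.app M))).of_iso (PreservesKernel.iso r (adj.unit.app M))

theorem isZero_resD_Q_gammaZ (I : CochainComplex X.Modules ℤ) :
    IsZero ((DPerf.resD j).obj (DerivedCategory.Q.obj (((DCoh.gammaZ j).mapHomologicalComplex Cx).obj I))) := by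
  refine (DerivedCategory.Q.map_isZero ?_).of_iso ((DPerf.resFac j).app _)
  rw [IsZero.iff_id_eq_zero]
  exact HomologicalComplex.hom_ext _ _ fun i => (isZero_restrict_gammaZ j (I.X i)).eq_of_src _ _

/-- The triangle on a K-injective complex of injectives. -/
theorem exists_triangle_Q (I : CochainComplex X.Modules ℤ) [I.IsKInjective] (hI : ∀ n, Injective (I.X n)) :
    ∃ (b : DerivedCategory.Q.obj I ⟶ (DCoh.Rpush j).obj ((DPerf.resD j).obj (DerivedCategory.Q.obj I)))
      (c : (DCoh.Rpush j).obj ((DPerf.resD j).obj (DerivedCategory.Q.obj I)) ⟶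
        (DerivedCategory.Q.obj (((DCoh.gammaZ j).mapHomologicalComplex Cx).obj I))⟦(1 : ℤ)⟧),
      Triangle.mk (DerivedCategory.Q.map (ιI j I)) b c ∈ distTriang _ := by
  haveI := DBC9.isKInjective_res j I
  have hd := DerivedCategory.triangleOfSES_distinguished (shortExact_seq j I hI)
  let e : DerivedCategory.Q.obj (((LocCohZQ.pp j).mapHomologicalComplex Cx).obj I) ≅
      (DCoh.Rpush j).obj ((DPerf.resD j).obj (DerivedCategory.Q.obj I)) :=
    DerivedCategory.Q.mapIso ((Functor.mapHomologicalComplexCompIso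
      (Iso.refl (LocCohZQ.pp j)) Cx).app I).symm ≪≫
      DMV.pushIso j (((Scheme.Modules.restrictFunctor j).mapHomologicalComplex Cx).obj I) ≪≫
      (DCoh.Rpush j).mapIso ((DPerf.resFac j).app I).symm
  refine ⟨DerivedCategory.Q.map (ηI j I) ≫ e.hom, e.inv ≫ DerivedCategory.triangleOfSESδ (shortExact_seq j I hI),
    isomorphic_distinguished _ hd _ (Triangle.isoMk _ _ (Iso.refl _) (Iso.refl _) e.symm ?_ ?_ ?_)⟩
  · simp [DerivedCategory.triangleOfSES]
  · simp [DerivedCategory.triangleOfSES]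
  · simp [DerivedCategory.triangleOfSES]

/-- No maps from objects supported on the complement. -/
theorem subsingleton_hom {W : DCoh.D X} (hW : IsZero ((DPerf.resD j).obj W)) (C : DCoh.D U) (n : ℤ) :
    Subsingleton (W ⟶ ((DCoh.Rpush j).obj C)⟦n⟧) := by
  obtain ⟨_, _⟩ := DPush.exists_commShift_isTriangulated j
  have h : Subsingleton ((lP j).obj W ⟶ C⟦n⟧) :=
    ⟨fun a b => (hW.of_iso ((lPRes j).app W)).eq_of_src a b⟩
  have h' := ((adjLP j).homEquiv W (C⟦n⟧)).subsingleton_congr.1 h
  exact ((Iso.refl W).homCongr (((DCoh.Rpush j).commShiftIso n).app C)).subsingleton_congr.1 h'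

theorem bijective_comp {S A B C : DCoh.D X} (hS : IsZero ((DPerf.resD j).obj S)) {a : A ⟶ B} {b : B ⟶ C}
    {c : C ⟶ A⟦(1 : ℤ)⟧} (hT : Triangle.mk a b c ∈ distTriang _) {C₀ : DCoh.D U}
    (e : C ≅ (DCoh.Rpush j).obj C₀) :
    Function.Bijective (fun s : S ⟶ A => s ≫ a) := by
  have hC : ∀ n : ℤ, Subsingleton (S ⟶ C⟦n⟧) := fun n =>
    haveI := subsingleton_hom j hS C₀ n
    ((Iso.refl S).homCongr ((shiftFunctor (DCoh.D X) n).mapIso e)).subsingleton
  refine ⟨fun s t (hst : s ≫ a = t ≫ a) => ?_, fun g => ?_⟩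
  · obtain ⟨r, hr⟩ := Triangle.coyoneda_exact₂ _ (inv_rot_of_distTriang _ hT) (s - t)
      (show (s - t) ≫ a = 0 by rw [Preadditive.sub_comp, hst, sub_self])
    haveI := hC (-1)
    have hr0 : r = 0 := @Subsingleton.elim (S ⟶ C⟦(-1 : ℤ)⟧) (hC (-1)) _ _
    rw [hr0, zero_comp] at hr
    exact sub_eq_zero.1 hr
  · haveI := hC 0
    have h0 : g ≫ b = 0 :=
      (cancel_mono ((shiftFunctorZero (DCoh.D X) ℤ).inv.app C)).1 (Subsingleton.elim _ _)
    obtain ⟨r, hr⟩ := Triangle.coyoneda_exact₂ _ hT g h0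
    exact ⟨r, hr.symm⟩

/-- Comparison of two triangles with supported first term. -/
theorem isIso_of_triangle {S A B C C' : DCoh.D X} (hS : IsZero ((DPerf.resD j).obj S))
    (hA : IsZero ((DPerf.resD j).obj A)) {a : A ⟶ B} {b : B ⟶ C} {c : C ⟶ A⟦(1 : ℤ)⟧}
    (hT : Triangle.mk a b c ∈ distTriang _) {C₀ : DCoh.D U} (e : C ≅ (DCoh.Rpush j).obj C₀)
    {a' : S ⟶ B} {b' : B ⟶ C'} {c' : C' ⟶ S⟦(1 : ℤ)⟧}
    (hT' : Triangle.mk a' b' c' ∈ distTriang _) {C₀' : DCoh.D U} (e' : C' ≅ (DCoh.Rpush j).obj C₀')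
    (φ : S ⟶ A) (hφ : φ ≫ a = a') : IsIso φ := by
  obtain ⟨ψ, hψ⟩ := (bijective_comp j hA hT' e').2 a
  simp only at hψ
  refine ⟨ψ, (bijective_comp j hS hT' e').1 ?_, (bijective_comp j hA hT e).1 ?_⟩
  · show (φ ≫ ψ) ≫ a' = 𝟙 S ≫ a'
    rw [Category.assoc, hψ, hφ, Category.id_comp]
  · show (ψ ≫ φ) ≫ a = 𝟙 A ≫ a
    rw [Category.assoc, hφ, hψ, Category.id_comp]

/-- A coproduct of supported objects is supported. -/
theorem isZero_resD_sigma {ι : Type u} (S : ι → DCoh.D X) [HasCoproduct S]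
    (hS : ∀ i, IsZero ((DPerf.resD j).obj (S i))) : IsZero ((DPerf.resD j).obj (∐ S)) := by
  refine IsZero.of_iso ?_ ((lPRes j).symm.app _)
  rw [IsZero.iff_id_eq_zero]
  refine ((adjLP j).homEquiv _ _).injective (Sigma.hom_ext _ _ fun i => ?_)
  haveI := subsingleton_hom j (hS i) ((lP j).obj (∐ S)) 0
  exact (cancel_mono ((shiftFunctorZero (DCoh.D X) ℤ).inv.app _)).1 (Subsingleton.elim _ _)

section Unbounded

variable [CxOX.HasRgammaZ j]

/-- `RΓ_Z K` with its map to `K`. -/
theorem exists_triangle (K : DCoh.D X) :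
    IsZero ((DPerf.resD j).obj ((CxOX.RgammaZ j).obj K)) ∧
    ∃ (b : K ⟶ (DCoh.Rpush j).obj ((DPerf.resD j).obj K))
      (c : (DCoh.Rpush j).obj ((DPerf.resD j).obj K) ⟶ ((CxOX.RgammaZ j).obj K)⟦(1 : ℤ)⟧),
      Triangle.mk ((CxOX.RgammaZToId j).app K) b c ∈ distTriang _ := by
  obtain ⟨I, φ, hI, hφ, -, hinj⟩ := KInjLib.exists_resolution (DerivedCategory.Q.objPreimage K)
  let e : DerivedCategory.Q.obj I ≅ K :=
    (asIso (DerivedCategory.Q.map φ)).symm ≪≫ DerivedCategory.Q.objObjPreimageIso K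
  let W := HomotopyCategory.quasiIso X.Modules Cx
  let u := (CxOX.gammaZKh j).totalRightDerivedUnit DerivedCategory.Qh W
  let q := (HomotopyCategory.quotient X.Modules Cx).obj I
  haveI : IsIso (u.app q) := KInjLib.isIso_app_of_isKInjective KInjLib.enoughKInj_of_grothendieck u I
  have hfac : u.app q ≫ (CxOX.RgammaZToId j).app (DerivedCategory.Qh.obj q) = (CxOX.gammaZKhι j).app q := by
    refine ((CxOX.RgammaZ j).rightDerived_fac_app u W (𝟭 (DCoh.D X))
      (CxOX.gammaZKhι j ≫ (Functor.rightUnitor _).inv) q).trans ?_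
    simp
  have e0 := DerivedCategory.quotientCompQhIso X.Modules
  let eI : DerivedCategory.Qh.obj q ≅ K := e0.app I ≪≫ e
  let a : (CxOX.RgammaZ j).obj K ≅ DerivedCategory.Q.obj (((DCoh.gammaZ j).mapHomologicalComplex Cx).obj I) :=
    (CxOX.RgammaZ j).mapIso eI.symm ≪≫ (asIso (u.app q)).symm ≪≫
      DerivedCategory.Qh.mapIso (((DCoh.gammaZ j).mapHomotopyCategoryFactors Cx).app I) ≪≫ e0.app _
  refine ⟨(isZero_resD_Q_gammaZ j I).of_iso ((DPerf.resD j).mapIso a), ?_⟩
  obtain ⟨b, c, hT⟩ := exists_triangle_Q j I hinj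
  let e' := (DCoh.Rpush j).mapIso ((DPerf.resD j).mapIso e)
  refine ⟨e.inv ≫ b ≫ e'.hom, e'.inv ≫ c ≫ a.inv⟦(1 : ℤ)⟧',
    isomorphic_distinguished _ hT _ (Triangle.isoMk _ _ a e.symm e'.symm ?_ (by simp) ?_)⟩
  · have hn := (CxOX.RgammaZToId j).naturality eI.inv
    simp only [Functor.id_obj, Functor.id_map] at hn
    change (CxOX.RgammaZToId j).app K ≫ e.inv = a.hom ≫ DerivedCategory.Q.map (ιI j I)
    have hq : DerivedCategory.Qh.map (((DCoh.gammaZ j).mapHomotopyCategoryFactors Cx).hom.app I) ≫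
        e0.hom.app _ ≫ DerivedCategory.Q.map (ιI j I) = (CxOX.gammaZKhι j).app q ≫ e0.hom.app I := by
      have hι : (CxOX.gammaZKhι j).app q =
          DerivedCategory.Qh.map (((DCoh.gammaZ j).mapHomotopyCategoryFactors Cx).hom.app I) ≫
            DerivedCategory.Qh.map ((HomotopyCategory.quotient X.Modules Cx).map (ιI j I)) := by
        dsimp only [CxOX.gammaZKhι, q]
        erw [Quotient.natTransLift_app]
        simp only [NatTrans.comp_app, Functor.whiskerRight_app, Functor.associator_hom_app, Functor.associator_inv_app,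
          Functor.leftUnitor_hom_app, Functor.comp_map, Functor.comp_obj]
        erw [Category.id_comp, Category.id_comp, Category.comp_id]
        rw [← Functor.map_comp DerivedCategory.Qh, ← Functor.map_comp DerivedCategory.Qh]
        rw [← Functor.map_comp (HomotopyCategory.quotient X.Modules Cx)]
        have hh : (NatTrans.mapHomologicalComplex (CxOX.gammaZι j) (ComplexShape.up ℤ)).app I ≫
            (Functor.mapHomologicalComplexIdIso X.Modules Cx).hom.app I = ιI j I := by
          exact HomologicalComplex.hom_ext _ _ fun i => Category.comp_id _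
        rw [hh]
        exact Functor.map_comp DerivedCategory.Qh _ _
      have he := e0.hom.naturality (ιI j I)
      simp only [Functor.comp_map] at he
      rw [hι, Category.assoc, he]
    calc (CxOX.RgammaZToId j).app K ≫ e.inv
        = ((CxOX.RgammaZToId j).app K ≫ eI.inv) ≫ e0.hom.app I := by simp [eI]
      _ = ((CxOX.RgammaZ j).map eI.inv ≫ (CxOX.RgammaZToId j).app (DerivedCategory.Qh.obj q)) ≫ e0.hom.app I :=
          congrArg (· ≫ _) hn.symm
      _ = a.hom ≫ DerivedCategory.Q.map (ιI j I) := by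
          simp only [a, Iso.trans_hom, Functor.mapIso_hom, Iso.symm_hom, asIso_inv, Iso.app_hom, Category.assoc, hq,
            ← hfac, IsIso.inv_hom_id_assoc]
  · simp [← Functor.map_comp]

/-- Universal property of `RΓ_Z K ⟶ K`. -/
theorem bijective_comp_RgammaZToId {S : DCoh.D X} (hS : IsZero ((DPerf.resD j).obj S)) (K : DCoh.D X) :
    Function.Bijective (fun s : S ⟶ (CxOX.RgammaZ j).obj K => s ≫ (CxOX.RgammaZToId j).app K) := by
  obtain ⟨-, b, c, hT⟩ := exists_triangle j K
  exact bijective_comp j hS hT (Iso.refl _)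

/-- A supported object with cone pushed from the open is `RΓ_Z`. -/
theorem isIso_factor {S K C' : DCoh.D X} (hS : IsZero ((DPerf.resD j).obj S))
    {g : S ⟶ K} {b' : K ⟶ C'} {c' : C' ⟶ S⟦(1 : ℤ)⟧} (hT' : Triangle.mk g b' c' ∈ distTriang _)
    {C₀ : DCoh.D U} (e' : C' ≅ (DCoh.Rpush j).obj C₀)
    (φ : S ⟶ (CxOX.RgammaZ j).obj K) (hφ : φ ≫ (CxOX.RgammaZToId j).app K = g) : IsIso φ := by
  obtain ⟨hA, b, c, hT⟩ := exists_triangle j K
  exact isIso_of_triangle j hS hA hT (Iso.refl _) hT' e' φ hφ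

end Unbounded

end Groth.Agent.DGam9
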