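import Mathlib.CategoryTheory.Triangulated.Pretriangulated
import Mathlib.CategoryTheory.Triangulated.Yoneda

/-! Coproducts of distinguished triangles. -/

set_option autoImplicit false
set_option backward.isDefEq.respectTransparency false

open CategoryTheory CategoryTheory.Limits Pretriangulated

namespace Groth.Agent.DGam9

universe v u w

variable {D : Type u} [Category.{v} D] [Preadditive D] [HasZeroObject D] [HasShift D ℤ]
  [∀ n : ℤ, (shiftFunctor D n).Additive] [Pretriangulated D]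

/-- Maps out of a shifted coproduct. -/
theorem exists_desc_shift {ι : Type w} (A : ι → D) [HasCoproduct A] {W : D} (h : ∀ i, (A i)⟦(1 : ℤ)⟧ ⟶ W) :
    ∃ k : (∐ A)⟦(1 : ℤ)⟧ ⟶ W, ∀ i, (Sigma.ι A i)⟦(1 : ℤ)⟧' ≫ k = h i := by
  let adj := (shiftEquiv D (1 : ℤ)).toAdjunction
  refine ⟨(adj.homEquiv _ _).symm (Sigma.desc fun i => adj.homEquiv _ _ (h i)), fun i => ?_⟩
  exact (adj.homEquiv_naturality_left_symm _ _).symm.trans
    ((congrArg (adj.homEquiv _ _).symm (Sigma.ι_desc _ _)).trans ((adj.homEquiv _ _).symm_apply_apply _))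

theorem shift_hom_ext {ι : Type w} (A : ι → D) [HasCoproduct A] {W : D} {k k' : (∐ A)⟦(1 : ℤ)⟧ ⟶ W}
    (h : ∀ i, (Sigma.ι A i)⟦(1 : ℤ)⟧' ≫ k = (Sigma.ι A i)⟦(1 : ℤ)⟧' ≫ k') : k = k' := by
  let adj := (shiftEquiv D (1 : ℤ)).toAdjunction
  refine (adj.homEquiv _ _).injective (Sigma.hom_ext _ _ fun i => ?_)
  exact (adj.homEquiv_naturality_left _ _).symm.trans
    ((congrArg (adj.homEquiv _ _) (h i)).trans (adj.homEquiv_naturality_left _ _))

/-- A coproduct of distinguished triangles is distinguished. -/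
theorem exists_sigma_triangle {ι : Type w} (T : ι → Triangle D) (hT : ∀ i, T i ∈ distTriang D)
    [HasCoproduct fun i => (T i).obj₁] [HasCoproduct fun i => (T i).obj₂]
    [HasCoproduct fun i => (T i).obj₃] :
    ∃ (b : (∐ fun i => (T i).obj₂) ⟶ ∐ fun i => (T i).obj₃)
      (c : (∐ fun i => (T i).obj₃) ⟶ (∐ fun i => (T i).obj₁)⟦(1 : ℤ)⟧),
      Triangle.mk (Limits.Sigma.map fun i => (T i).mor₁) b c ∈ distTriang D := by
  let g := Limits.Sigma.map fun i => (T i).mor₁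
  obtain ⟨Z, b, c, hZ⟩ := distinguished_cocone_triangle g
  let φ : ∀ i, T i ⟶ Triangle.mk g b c := fun i => completeDistinguishedTriangleMorphism _ _
    (hT i) hZ (Sigma.ι (fun i => (T i).obj₁) i) (Sigma.ι (fun i => (T i).obj₂) i)
    (by simp [g, Triangle.mk])
  let γ : (∐ fun i => (T i).obj₃) ⟶ Z := Sigma.desc fun i => (φ i).hom₃
  have h₁ : ∀ i, (T i).mor₂ ≫ (φ i).hom₃ = Sigma.ι (fun i => (T i).obj₂) i ≫ b := fun i => (φ i).comm₂
  have h₂ : ∀ i, (T i).mor₃ ≫ (Sigma.ι (fun i => (T i).obj₁) i)⟦(1 : ℤ)⟧' = (φ i).hom₃ ≫ c :=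
    fun i => (φ i).comm₃
  have inj : ∀ (W : D) (f : Z ⟶ W), γ ≫ f = 0 → f = 0 := by
    intro W f hf
    have hγ : ∀ i, (φ i).hom₃ ≫ f = 0 := fun i => by
      have := congrArg (Sigma.ι (fun i => (T i).obj₃) i ≫ ·) hf
      simpa [γ] using this
    have hb : b ≫ f = 0 := Sigma.hom_ext _ _ fun i => by
      rw [← reassoc_of% (h₁ i), hγ, comp_zero, comp_zero]
    obtain ⟨h, rfl⟩ := Triangle.yoneda_exact₃ _ hZ f hb
    have hi : ∀ i, ∃ k : (T i).obj₂⟦(1 : ℤ)⟧ ⟶ W,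
        (Sigma.ι (fun i => (T i).obj₁) i)⟦(1 : ℤ)⟧' ≫ h = (T i).mor₁⟦(1 : ℤ)⟧' ≫ k := fun i => by
      obtain ⟨k, hk⟩ := Triangle.yoneda_exact₃ _ (rot_of_distTriang _ (hT i))
        ((Sigma.ι (fun i => (T i).obj₁) i)⟦(1 : ℤ)⟧' ≫ h)
        (show (T i).mor₃ ≫ _ = 0 from (((Category.assoc _ _ _).symm.trans ((congrArg (· ≫ h) (h₂ i)).trans (Category.assoc _ _ _))).trans (hγ i)))
      exact ⟨-k, hk.trans ((Preadditive.neg_comp _ _).trans (Preadditive.comp_neg _ _).symm)⟩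
    choose k hk using hi
    obtain ⟨k', hk'⟩ := exists_desc_shift _ k
    have hh : h = g⟦(1 : ℤ)⟧' ≫ k' := shift_hom_ext _ fun i => by
      rw [hk i, ← hk' i, ← Functor.map_comp_assoc, ← Functor.map_comp_assoc]
      simp [g]
    rw [hh]
    exact (Category.assoc _ _ _).symm.trans
      ((congrArg (· ≫ k') (comp_distTriang_mor_zero₃₁ _ hZ)).trans zero_comp)
  have surj : ∀ (W : D) (δ : (∐ fun i => (T i).obj₃) ⟶ W), ∃ f : Z ⟶ W, γ ≫ f = δ := by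
    intro W δ
    let β : (∐ fun i => (T i).obj₂) ⟶ W := Sigma.desc fun i => (T i).mor₂ ≫ Sigma.ι (fun i => (T i).obj₃) i ≫ δ
    have hgβ : g ≫ β = 0 := Sigma.hom_ext _ _ fun i => by
      simp [g, β, reassoc_of% (comp_distTriang_mor_zero₁₂ _ (hT i))]
    have hex : ∃ f₀ : Z ⟶ W, β = b ≫ f₀ := Triangle.yoneda_exact₂ _ hZ β hgβ
    obtain ⟨f₀, hf₀⟩ := hex
    have hi : ∀ i, ∃ h : (T i).obj₁⟦(1 : ℤ)⟧ ⟶ W,
        Sigma.ι (fun i => (T i).obj₃) i ≫ δ - (φ i).hom₃ ≫ f₀ = (T i).mor₃ ≫ h := fun i => by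
      obtain ⟨h, hh⟩ := Triangle.yoneda_exact₃ _ (hT i)
        (Sigma.ι (fun i => (T i).obj₃) i ≫ δ - (φ i).hom₃ ≫ f₀)
        (by rw [Preadditive.comp_sub, reassoc_of% (h₁ i), ← hf₀]; simp [β])
      exact ⟨h, hh⟩
    choose h hh using hi
    obtain ⟨h', hh'⟩ := exists_desc_shift _ h
    refine ⟨(f₀ + c ≫ h' : Z ⟶ W), Sigma.hom_ext _ _ fun i => ?_⟩
    rw [Sigma.ι_desc_assoc, Preadditive.comp_add, ← reassoc_of% (h₂ i), hh' i, ← hh i, add_sub_cancel]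
  haveI : IsIso γ := by
    obtain ⟨f, hf⟩ := surj _ (𝟙 _)
    exact ⟨f, hf, sub_eq_zero.1 (inj _ _ (by
      rw [Preadditive.comp_sub, reassoc_of% hf, Category.comp_id, sub_self]))⟩
  refine ⟨b ≫ inv γ, γ ≫ c, isomorphic_distinguished _ hZ _
    (Triangle.isoMk _ _ (Iso.refl _) (Iso.refl _) (asIso γ) ?_ ?_ ?_)⟩
  · simp [g, Triangle.mk]
  · simp [Triangle.mk]
  · simp [Triangle.mk]

end Groth.Agent.DGam9
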