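import Groth.Agent.Lib.DGam9.Basic

/-! The triangle for `RΓ_Z` on `D⁺`. -/

set_option autoImplicit false
set_option linter.unusedSectionVars false
set_option linter.style.haveILetI false
set_option backward.isDefEq.respectTransparency false
set_option backward.isDefEq.respectTransparency.types false

universe u

open CategoryTheory CategoryTheory.Limits AlgebraicGeometry Pretriangulated

attribute [local instance] HasDerivedCategory.standard

namespace Groth.Agent.DGam9

attribute [local instance] DBC9.hasRpush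

local notation "Cx" => ComplexShape.up ℤ

variable {U X : Scheme.{u}} (j : U ⟶ X) [IsOpenImmersion j] [EnoughInjectives X.Modules]

theorem exists_triangle_plus (E : DerivedCategory.Plus X.Modules) :
    IsZero ((DPerf.resD j).obj ((DCoh.RgammaZPlus j).obj E).obj) ∧
    ∃ (a : ((DCoh.RgammaZPlus j).obj E).obj ⟶ E.obj)
      (b : E.obj ⟶ (DCoh.Rpush j).obj ((DPerf.resD j).obj E.obj))
      (c : (DCoh.Rpush j).obj ((DPerf.resD j).obj E.obj) ⟶ (((DCoh.RgammaZPlus j).obj E).obj)⟦(1 : ℤ)⟧),
      Triangle.mk a b c ∈ distTriang _ := by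
  let Y := (RFPlus.injEquiv X.Modules).inverse.obj E
  obtain ⟨K, hK⟩ := HomotopyCategory.Plus.quotient_obj_surjective Y
  let I := ((InjectiveObject.ι X.Modules).mapHomologicalComplex Cx).obj K.obj
  haveI : CochainComplex.IsKInjective I := inferInstanceAs (CochainComplex.IsKInjective
    (((InjectiveObject.ι X.Modules).mapHomologicalComplex (.up ℤ)).obj K.obj))
  have hI : ∀ n, Injective (I.X n) := fun n => (K.obj.X n).property
  let e0 := DerivedCategory.quotientCompQhIso X.Modules
  let e1 : DerivedCategory.Q.obj I ≅ E.obj :=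
    (e0.app I).symm ≪≫ DerivedCategory.Plus.ι.mapIso
      ((RFPlus.injEquiv X.Modules).functor.mapIso (eqToIso hK) ≪≫ (RFPlus.injEquiv X.Modules).counitIso.app E)
  let e2 : ((DCoh.RgammaZPlus j).obj E).obj ≅
      DerivedCategory.Q.obj (((DCoh.gammaZ j).mapHomologicalComplex Cx).obj I) :=
    DerivedCategory.Plus.ι.mapIso ((RFPlus.rightDerivedFunctorPlusIso (DCoh.gammaZ j)).symm.app E ≪≫
      ((InjectiveObject.ι X.Modules).mapHomotopyCategoryPlus ⋙ (DCoh.gammaZ j).mapHomotopyCategoryPlus ⋙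
        DerivedCategory.Plus.Qh).mapIso (eqToIso hK.symm)) ≪≫
      DerivedCategory.Qh.mapIso (((DCoh.gammaZ j).mapHomotopyCategoryFactors Cx).app I) ≪≫ e0.app _
  refine ⟨(isZero_resD_Q_gammaZ j I).of_iso ((DPerf.resD j).mapIso e2), ?_⟩
  obtain ⟨b, c, hT⟩ := exists_triangle_Q j I hI
  let e' := (DCoh.Rpush j).mapIso ((DPerf.resD j).mapIso e1)
  refine ⟨e2.hom ≫ DerivedCategory.Q.map (ιI j I) ≫ e1.hom, e1.inv ≫ b ≫ e'.hom, e'.inv ≫ c ≫ e2.inv⟦(1 : ℤ)⟧',
    isomorphic_distinguished _ hT _ (Triangle.isoMk _ _ e2 e1.symm e'.symm (by simp) (by simp) ?_)⟩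
  simp [← Functor.map_comp]

end Groth.Agent.DGam9
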